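import Groth.Agent.H1Approx.Completion
import Mathlib.RingTheory.Henselian
import Mathlib.RingTheory.Spectrum.Prime.Topology

/-!
# Clopen subsets of `D(f)` descend along `A → A^_f`
-/

set_option autoImplicit false
set_option linter.style.haveILetI false

universe u

namespace Groth.Agent.H1Gabber

open Polynomial

variable {A : Type u} [CommRing A]

/-- A quasi-root near a given one. -/
theorem exists_exact {I : Ideal A} [HenselianRing A I] {f : A} (hf : f ∈ I) (N : ℕ) (a d : A)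
    (h : a ^ 2 - f ^ N * a = f ^ (3 * N + 1) * d) :
    ∃ x : A, x ^ 2 = f ^ N * x ∧ f ^ (N + 1) ∣ x - a := by
  have hfj : f ∈ (⊥ : Ideal A).jacobson := HenselianRing.jac hf
  obtain ⟨v, hv⟩ : IsUnit (1 + 4 * f ^ (N + 1) * d) := by
    have := Ideal.mem_jacobson_bot.1 hfj (4 * f ^ N * d)
    convert this using 1
    ring
  set e : A := f ^ (N + 1) * (d * ↑v⁻¹) with he
  have hve : (1 + 4 * f ^ (N + 1) * d) * e = f ^ (N + 1) * d := by
    rw [he, ← hv]
    linear_combination (f ^ (N + 1) * d) * Units.mul_inv v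
  have heI : e ∈ I := by
    rw [he, pow_succ']
    exact I.mul_mem_right _ (I.mul_mem_right _ hf)
  obtain ⟨w, hw, hwI⟩ := HenselianRing.is_henselian (I := I) (X ^ 2 + X + C e)
    (by monicity!) 0 (by simpa using heI)
    (by simp [derivative_X_pow])
  have hw' : w ^ 2 + w + e = 0 := by simpa using hw
  rw [sub_zero] at hwI
  obtain ⟨z, hz⟩ : IsUnit (1 + w) := by
    have := Ideal.mem_jacobson_bot.1 (HenselianRing.jac hwI) 1
    rwa [mul_one, add_comm] at this
  have hwdvd : f ^ (N + 1) ∣ w := by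
    refine ⟨-(d * ↑v⁻¹) * ↑z⁻¹, ?_⟩
    have h1 : w * ↑z = -(f ^ (N + 1) * (d * ↑v⁻¹)) := by
      rw [hz]
      linear_combination hw'
    linear_combination (↑z⁻¹ : A) * h1 - w * Units.mul_inv z
  refine ⟨a + (2 * a - f ^ N) * w, ?_, ?_⟩
  · have h3 : f ^ (3 * N + 1) = f ^ (2 * N) * f ^ (N + 1) := by
      rw [← pow_add]; congr 1; omega
    have h4 : f ^ (2 * N) = f ^ N * f ^ N := by rw [← pow_add]; congr 1; omega
    rw [h3, h4] at h
    linear_combination (1 + 4 * w + 4 * w ^ 2) * h + (f ^ N * f ^ N) * (1 + 4 * f ^ (N + 1) * d) * hw'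
      - f ^ N * f ^ N * hve
  · obtain ⟨q, hq⟩ := hwdvd
    exact ⟨(2 * a - f ^ N) * q, by rw [hq]; ring⟩

/-- Uniqueness of quasi-idempotents up to `f`-torsion. -/
theorem pow_mul_sub_eq_zero {B : Type u} [CommRing B] {f : B} (hf : f ∈ (⊥ : Ideal B).jacobson)
    (N : ℕ) (X c : B) (hX : X ^ 2 = f ^ N * X) (hc : c ^ 2 = f ^ N * c)
    (h : f ^ (N + 1) ∣ X - c) : f ^ (2 * N) * (X - c) = 0 := by
  obtain ⟨q, hq⟩ := h
  have h3 : (X - c) ^ 3 = f ^ (2 * N) * (X - c) := by
    rw [two_mul, pow_add]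
    linear_combination (X + f ^ N - 3 * c) * hX + (3 * X - c - f ^ N) * hc
  obtain ⟨u, hu⟩ : IsUnit (1 - f ^ 2 * q ^ 2) := by
    have := Ideal.mem_jacobson_bot.1 hf (-(f * q ^ 2))
    convert this using 1
    ring
  have hfN : f ^ (N + 1) * f ^ (N + 1) = f ^ (2 * N) * f ^ 2 := by
    rw [← pow_add, ← pow_add]; congr 1; omega
  have h0 : f ^ (2 * N) * (X - c) * ↑u = 0 := by
    rw [hu]
    have : (X - c) ^ 3 = f ^ (N + 1) * f ^ (N + 1) * q ^ 2 * (X - c) := by rw [hq]; ring
    rw [hfN] at this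
    linear_combination -h3 + this
  exact (Units.mul_left_eq_zero u).1 h0

variable (f : A)

set_option quotPrecheck false in
local notation "B" => AdicCompletion (Ideal.span {f}) A
set_option quotPrecheck false in
local notation "φ" => algebraMap A (AdicCompletion (Ideal.span {f}) A)

theorem algebraMap_mem_jacobson : φ f ∈ (⊥ : Ideal B).jacobson := by
  have : IsAdicComplete ((Ideal.span {f}).map φ) B :=
    (IsAdicComplete.map_algebraMap_iff _ _).2
      (AdicCompletion.isAdicComplete (Submodule.fg_span_singleton f))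
  exact IsAdicComplete.le_jacobson_bot ((Ideal.span {f}).map φ)
    (Ideal.mem_map_of_mem _ (Ideal.mem_span_singleton_self f))

/-- Quasi-idempotents descend up to `f`-torsion. -/
theorem exists_descent {I : Ideal A} [HenselianRing A I] (hf : f ∈ I) (N : ℕ) (c : B)
    (hc : c ^ 2 = φ f ^ N * c) :
    ∃ x : A, x ^ 2 = f ^ N * x ∧ φ f ^ (2 * N) * (φ x - c) = 0 := by
  obtain ⟨a, q, hq⟩ := Groth.Agent.H1Approx.exists_sub_eq_pow_mul A f (3 * N + 1) c
  have h1 : φ (a ^ 2 - f ^ N * a) = φ f ^ (3 * N + 1) * (-q * (φ a + c - φ f ^ N)) := by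
    simp only [map_sub, map_mul, map_pow]
    linear_combination (-(φ a + c - φ f ^ N)) * hq + hc
  obtain ⟨d, hd⟩ := Groth.Agent.H1Approx.exists_eq_pow_mul A f _ _ _ h1
  obtain ⟨x, hx, hxa⟩ := exists_exact hf N a d hd
  refine ⟨x, hx, pow_mul_sub_eq_zero (algebraMap_mem_jacobson f) N _ _
    (by rw [← map_pow, hx, map_mul, map_pow]) hc ?_⟩
  have h2 : φ f ^ (N + 1) ∣ φ x - φ a := by
    rw [← map_pow, ← map_sub]
    exact map_dvd φ hxa
  have h3 : φ f ^ (N + 1) ∣ φ a - c := by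
    refine ⟨φ f ^ (2 * N) * -q, ?_⟩
    have : φ f ^ (3 * N + 1) = φ f ^ (N + 1) * φ f ^ (2 * N) := by
      rw [← pow_add]; congr 1; omega
    rw [this] at hq
    linear_combination -hq
  simpa using dvd_add h2 h3

theorem exists_quasi_idempotent {R : Type u} [CommRing R] (t : R)
    (S : Set (PrimeSpectrum R)) (hS : S ⊆ (PrimeSpectrum.basicOpen t : Set (PrimeSpectrum R)))
    (hclopen : IsClopen ((↑) ⁻¹' S : Set (PrimeSpectrum.basicOpen t : Set (PrimeSpectrum R)))) :
    ∃ (N : ℕ) (c : R), c ^ 2 = t ^ N * c ∧ S = (PrimeSpectrum.basicOpen (c * t) : Set (PrimeSpectrum R)) := by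
  let L := Localization.Away t
  let ι : R →+* L := algebraMap R L
  have hemb := PrimeSpectrum.localization_away_isOpenEmbedding L t
  have hrange := PrimeSpectrum.localization_away_comap_range L t
  have hmaps : ∀ z : PrimeSpectrum L, PrimeSpectrum.comap ι z ∈ (PrimeSpectrum.basicOpen t : Set (PrimeSpectrum R)) :=
    fun z => hrange ▸ ⟨z, rfl⟩
  have hcl : IsClopen (PrimeSpectrum.comap ι ⁻¹' S) :=
    hclopen.preimage (hemb.continuous.codRestrict hmaps)
  obtain ⟨e, he, hSe⟩ := PrimeSpectrum.isClopen_iff.1 hcl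
  obtain ⟨⟨c₀, _, k, rfl⟩, hc₀⟩ := IsLocalization.surj (Submonoid.powers t) e
  dsimp only at hc₀
  have h1 : ι (c₀ ^ 2) = ι (t ^ k * c₀) := by
    rw [map_pow, map_mul, ← hc₀]
    linear_combination (ι (t ^ k)) ^ 2 * he.eq
  obtain ⟨⟨_, n, rfl⟩, hn⟩ := (IsLocalization.eq_iff_exists (Submonoid.powers t) L).1 h1
  dsimp only at hn
  refine ⟨n + k, t ^ n * c₀, ?_, ?_⟩
  · rw [pow_add]
    linear_combination (t ^ n) * hn
  · ext P
    constructor
    · intro hP
      obtain ⟨z, rfl⟩ : P ∈ Set.range (PrimeSpectrum.comap ι) := hrange ▸ hS hP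
      have hz : e ∉ z.asIdeal := (Set.ext_iff.1 hSe z).1 hP
      have ht : t ∉ (PrimeSpectrum.comap ι z).asIdeal := hmaps z
      have : c₀ ∉ (PrimeSpectrum.comap ι z).asIdeal := fun h => by
        rw [PrimeSpectrum.comap_asIdeal, Ideal.mem_comap, ← hc₀] at h
        rcases z.isPrime.mem_or_mem h with h | h
        · exact hz h
        · exact ht (Ideal.IsPrime.mem_of_pow_mem inferInstance k (by simpa using h))
      intro hmem
      rcases (PrimeSpectrum.comap ι z).isPrime.mem_or_mem hmem with h | h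
      · rcases (PrimeSpectrum.comap ι z).isPrime.mem_or_mem h with h | h
        · exact ht (Ideal.IsPrime.mem_of_pow_mem inferInstance n h)
        · exact this h
      · exact ht h
    · intro hP
      have ht : t ∉ P.asIdeal := fun h => hP (P.asIdeal.mul_mem_left _ h)
      obtain ⟨z, rfl⟩ : P ∈ Set.range (PrimeSpectrum.comap ι) := hrange ▸ ht
      refine (Set.ext_iff.1 hSe z).2 fun hz => hP (Ideal.mul_mem_right _ _ (Ideal.mul_mem_left _ _ ?_))
      rw [PrimeSpectrum.comap_asIdeal, Ideal.mem_comap, ← hc₀]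
      exact z.asIdeal.mul_mem_right _ hz

/-- Clopen subsets of `D(f)` in `Spec A^_f` descend to `Spec A`. -/
theorem exists_basicOpen_descent {I : Ideal A} [HenselianRing A I] (hf : f ∈ I)
    (S : Set (PrimeSpectrum B)) (hS : S ⊆ (PrimeSpectrum.basicOpen (φ f) : Set (PrimeSpectrum B)))
    (hclopen : IsClopen ((↑) ⁻¹' S : Set (PrimeSpectrum.basicOpen (φ f) : Set (PrimeSpectrum B)))) :
    ∃ a a' : A,
      (PrimeSpectrum.basicOpen a : Set (PrimeSpectrum A)) ⊆ PrimeSpectrum.basicOpen f ∧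
      (∀ P : PrimeSpectrum A, f ∉ P.asIdeal → (a' ∉ P.asIdeal ↔ a ∈ P.asIdeal)) ∧
      (PrimeSpectrum.basicOpen a' : Set (PrimeSpectrum A)) ⊆ PrimeSpectrum.basicOpen f ∧
      PrimeSpectrum.comap φ ⁻¹' (PrimeSpectrum.basicOpen a : Set (PrimeSpectrum A)) = S := by
  obtain ⟨N, c, hc, rfl⟩ := exists_quasi_idempotent (φ f) S hS hclopen
  obtain ⟨x, hx, hg⟩ := exists_descent f hf N c hc
  refine ⟨x * f, (f ^ N - x) * f, fun P hP h => hP (P.asIdeal.mul_mem_left _ h), fun P hfP => ?_,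
    fun P hP h => hP (P.asIdeal.mul_mem_left _ h), ?_⟩
  · constructor
    · intro h
      have h0 : (f ^ N - x) * f * (x * f) ∈ P.asIdeal := by
        rw [show (f ^ N - x) * f * (x * f) = 0 by linear_combination (-(f ^ 2)) * hx]
        exact zero_mem _
      exact (P.isPrime.mem_or_mem h0).resolve_left h
    · intro h h'
      have hx' := (P.isPrime.mem_or_mem h).resolve_right hfP
      have hx'' := (P.isPrime.mem_or_mem h').resolve_right hfP
      exact hfP (P.isPrime.mem_of_pow_mem N (by simpa using add_mem hx'' hx'))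
  · ext Q
    show φ (x * f) ∉ Q.asIdeal ↔ c * φ f ∉ Q.asIdeal
    rw [map_mul]
    by_cases hfQ : φ f ∈ Q.asIdeal
    · simp [Ideal.mul_mem_left _ _ hfQ]
    have hdiff : φ x - c ∈ Q.asIdeal :=
      (Q.isPrime.mem_or_mem (show φ f ^ (2 * N) * (φ x - c) ∈ Q.asIdeal from hg ▸ zero_mem _)).resolve_left
        fun h => hfQ (Q.isPrime.mem_of_pow_mem _ h)
    refine not_congr ⟨fun h => ?_, fun h => ?_⟩
    · simpa [sub_mul] using sub_mem h (Q.asIdeal.mul_mem_right (φ f) hdiff)
    · simpa [sub_mul] using add_mem h (Q.asIdeal.mul_mem_right (φ f) hdiff)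

end Groth.Agent.H1Gabber
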