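import Mathlib.RingTheory.AdicCompletion.Algebra
import Mathlib.RingTheory.Valuation.LocalSubring
import Mathlib.RingTheory.Localization.FractionRing
import Mathlib.RingTheory.Spectrum.Prime.Topology

/-!
# Lifting a specialization to the completion

For an ideal `I` of finite type and primes `x ≤ y` of `A` with `I ⊄ x` and `I ⊆ y`, there is a
specialization of primes of the completion `Â` lying over a specialization `x' ≤ y` with `x ≤ x'`
and `I ⊄ x'`.
-/

set_option autoImplicit false

universe u

namespace Groth.Agent.H1Gabber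

variable {A : Type u} [CommRing A]

/-- A valuation ring dominating a specialization of primes. -/
theorem exists_valuation (x y : PrimeSpectrum A) (hxy : x ≤ y) :
    ∃ (K : Type u) (_ : Field K) (V : ValuationSubring K) (φ : A →+* V),
      RingHom.ker φ = x.asIdeal ∧ (IsLocalRing.maximalIdeal V).comap φ = y.asIdeal := by
  let x' := x.asIdeal
  have : x'.IsPrime := x.isPrime
  let K := FractionRing (A ⧸ x')
  let ι : A →+* K := (algebraMap (A ⧸ x') K).comp (Ideal.Quotient.mk x')
  have hker : RingHom.ker ι = x' := by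
    ext a
    simp [ι, RingHom.mem_ker, Ideal.Quotient.eq_zero_iff_mem]
  let R : Subring K := ι.range
  let r : A →+* R := ι.rangeRestrict
  have hr : Function.Surjective r := ι.rangeRestrict_surjective
  have hkr : RingHom.ker r ≤ y.asIdeal := by
    rw [RingHom.ker_rangeRestrict, hker]
    exact hxy
  let P : Ideal R := y.asIdeal.map r
  have : P.IsPrime := Ideal.map_isPrime_of_surjective hr hkr
  have hP : P.comap r = y.asIdeal := by
    rw [Ideal.comap_map_of_surjective r hr]
    exact sup_eq_left.2 (by simpa [RingHom.ker] using hkr)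
  obtain ⟨V, hV⟩ := (LocalSubring.ofPrime R P).exists_le_valuationSubring
  obtain ⟨h, hloc⟩ := hV
  let j : R →+* V := Subring.inclusion (le_trans (LocalSubring.le_ofPrime R P) h)
  refine ⟨K, inferInstance, V, j.comp r, ?_, ?_⟩
  · ext a
    rw [RingHom.mem_ker]
    have : (j.comp r) a = 0 ↔ ι a = 0 := by
      rw [Subtype.ext_iff]
      rfl
    rw [this, ← RingHom.mem_ker, hker]
  · have hj : (IsLocalRing.maximalIdeal V).comap j = P := by
      let i : (LocalSubring.ofPrime R P).toSubring →+* V := Subring.inclusion h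
      have : IsLocalHom i := hloc
      have h1 : (IsLocalRing.maximalIdeal V).comap i = IsLocalRing.maximalIdeal _ :=
        ((IsLocalRing.local_hom_TFAE i).out 0 4).mp this
      have h2 : (IsLocalRing.maximalIdeal (LocalSubring.ofPrime R P).toSubring).comap
          (algebraMap R (LocalSubring.ofPrime R P).toSubring) = P :=
        IsLocalization.AtPrime.comap_maximalIdeal (LocalSubring.ofPrime R P).toSubring P
      rw [← h1, Ideal.comap_comap] at h2
      exact h2
    rw [← Ideal.comap_comap, hj, hP]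

variable (I : Ideal A)

/-- Lift of a specialization into `V(I)` to the completion. -/
theorem exists_lift (hI : I.FG) (x y : PrimeSpectrum A) (hxy : x ≤ y)
    (hx : ¬ I ≤ x.asIdeal) (hy : I ≤ y.asIdeal) :
    ∃ P Q : PrimeSpectrum (AdicCompletion I A), P ≤ Q ∧
      x ≤ PrimeSpectrum.comap (algebraMap A (AdicCompletion I A)) P ∧
      ¬ I ≤ (PrimeSpectrum.comap (algebraMap A (AdicCompletion I A)) P).asIdeal ∧
      PrimeSpectrum.comap (algebraMap A (AdicCompletion I A)) Q = y := by
  obtain ⟨K, _, V, φ, hker, hcomap⟩ := exists_valuation x y hxy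
  -- a generator of `I V`
  obtain ⟨g, hgI, hg⟩ : ∃ g ∈ I, ∀ a ∈ I, φ g ∣ φ a := by
    obtain ⟨s, hs⟩ := hI
    suffices h : ∀ t : Finset A, (↑t : Set A) ⊆ I → ∃ g ∈ I, ∀ a ∈ t, φ g ∣ φ a by
      obtain ⟨g, hgI, hg⟩ := h s (by rw [← hs]; exact Ideal.subset_span)
      refine ⟨g, hgI, fun a ha => ?_⟩
      have hle : I ≤ (Ideal.span {φ g}).comap φ := by
        rw [← hs]
        exact Ideal.span_le.2 fun b hb => Ideal.mem_span_singleton.2 (hg b hb)
      exact Ideal.mem_span_singleton.1 (hle ha)
    intro t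
    induction t using Finset.cons_induction with
    | empty => exact fun _ => ⟨0, I.zero_mem, by simp⟩
    | cons b t hb ih =>
      intro ht
      simp only [Finset.coe_cons, Set.insert_subset_iff] at ht
      obtain ⟨g, hgI, hg⟩ := ih ht.2
      rcases ValuationRing.dvd_total (φ g) (φ b) with h | h
      · exact ⟨g, hgI, fun a ha => by
          rcases Finset.mem_cons.1 ha with rfl | ha
          · exact h
          · exact hg a ha⟩
      · exact ⟨b, ht.1, fun a ha => by
          rcases Finset.mem_cons.1 ha with rfl | ha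
          · exact dvd_rfl
          · exact h.trans (hg a ha)⟩
  have hg0 : φ g ≠ 0 := fun h0 => hx fun a ha => by
    rw [← hker, RingHom.mem_ker]
    simpa [h0] using hg a ha
  have hgm : φ g ∈ IsLocalRing.maximalIdeal V := by
    have := hy hgI
    rwa [← hcomap] at this
  have hIn : ∀ n : ℕ, I ^ n ≤ (Ideal.span {φ g ^ n}).comap φ := fun n => by
    rw [← Ideal.map_le_iff_le_comap, Ideal.map_pow, ← Ideal.span_singleton_pow]
    refine Ideal.pow_right_mono (Ideal.map_le_iff_le_comap.2 ?_) n
    exact fun a ha => Ideal.mem_span_singleton.2 (hg a ha)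
  let ρ : (n : ℕ) → AdicCompletion I A →+* V ⧸ Ideal.span {φ g ^ n} := fun n =>
    (Ideal.quotientMap _ φ (hIn n)).comp (AdicCompletion.evalₐ I n).toRingHom
  have hρa : ∀ (n : ℕ) (a : A), ρ n (algebraMap A _ a) = Ideal.Quotient.mk _ (φ a) := fun n a => by
    simp [ρ]
  let K₀ : Ideal (AdicCompletion I A) := ⨅ n : ℕ, RingHom.ker (ρ n)
  -- the prime over `y`
  let Q₀ : AdicCompletion I A →+* A ⧸ y.asIdeal :=
    (Ideal.Quotient.factor hy).comp (AdicCompletion.evalOneₐ I).toRingHom
  have hQ : (RingHom.ker Q₀).IsPrime := RingHom.ker_isPrime Q₀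
  have hQa : ∀ a : A, Q₀ (algebraMap A _ a) = Ideal.Quotient.mk _ a := fun a => by
    simp [Q₀]
  -- avoiding set
  let M : Submonoid (AdicCompletion I A) :=
    (RingHom.ker Q₀).primeCompl ⊔ Submonoid.powers (algebraMap A _ g)
  have hdisj : Disjoint (K₀ : Set (AdicCompletion I A)) M := by
    rw [Set.disjoint_left]
    intro z hz hzM
    obtain ⟨s, hs, _, ⟨n, rfl⟩, rfl⟩ := Submonoid.mem_sup.1 hzM
    refine hs ?_
    have hz' : ρ (n + 1) (s * algebraMap A _ g ^ n) = 0 := (Ideal.mem_iInf.1 hz) (n + 1)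
    obtain ⟨r, rfl⟩ := AdicCompletion.mk_surjective I A s
    obtain ⟨b, hb⟩ : ∃ b, r.val (n + 1) = b := ⟨_, rfl⟩
    rw [map_mul, map_pow, hρa] at hz'
    have hs' : ρ (n + 1) (AdicCompletion.mk I A r) = Ideal.Quotient.mk _ (φ b) := by
      simp [ρ, ← hb]
    rw [hs'] at hz'
    rw [← map_pow (Ideal.Quotient.mk _), ← map_mul, Ideal.Quotient.eq_zero_iff_mem, Ideal.mem_span_singleton,
      pow_succ, mul_comm (φ b)] at hz'
    have hbm : φ b ∈ IsLocalRing.maximalIdeal V :=
      Ideal.mem_of_dvd _ ((mul_dvd_mul_iff_left (pow_ne_zero n hg0)).1 hz') hgm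
    have hby : b ∈ y.asIdeal := by
      rw [← hcomap]
      exact hbm
    rw [SetLike.mem_coe, RingHom.mem_ker]
    have h1 : AdicCompletion.evalOneₐ I (AdicCompletion.mk I A r) = Ideal.Quotient.mk I b := by
      rw [← AdicCompletion.factorₐ_evalₐ_one, AdicCompletion.evalₐ_mk,
        ← AdicCompletion.Ideal.mk_eq_mk I (Nat.le_add_left 1 n), Ideal.Quotient.factor_mk, ← hb]
    show Ideal.Quotient.factor hy (AdicCompletion.evalOneₐ I (AdicCompletion.mk I A r)) = 0
    rw [h1, Ideal.Quotient.factor_mk, Ideal.Quotient.eq_zero_iff_mem]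
    exact hby
  obtain ⟨P, hP, hKP, hPM⟩ := Ideal.exists_le_prime_disjoint K₀ M hdisj
  refine ⟨⟨P, hP⟩, ⟨RingHom.ker Q₀, hQ⟩, fun a ha => ?_, fun a ha => ?_, fun hle => ?_, ?_⟩
  · by_contra hne
    exact Set.disjoint_left.1 hPM ha (Submonoid.mem_sup_left hne)
  · refine hKP ?_
    rw [Ideal.mem_iInf]
    intro n
    rw [← hker, RingHom.mem_ker] at ha
    rw [RingHom.mem_ker, hρa, ha, map_zero]
  · exact Set.disjoint_left.1 hPM (hle hgI) (Submonoid.mem_sup_right (Submonoid.mem_powers _))
  · ext a
    show Q₀ (algebraMap A _ a) = 0 ↔ _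
    rw [hQa, Ideal.Quotient.eq_zero_iff_mem]

end Groth.Agent.H1Gabber
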