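import Groth.Agent.H1Approx.Completion
import Mathlib.RingTheory.Henselian

/-!
# Precompleteness along the tower of principal completions
-/

set_option autoImplicit false
set_option linter.style.haveILetI false

universe u

namespace Groth.Agent.H1Gabber

section

variable {R : Type u} [CommRing R]

theorem exists_limit (K : Ideal R) [IsPrecomplete K R] (s : ℕ → R)
    (hs : ∀ n, s (n + 1) - s n ∈ K ^ n) : ∃ L, ∀ n, s n - L ∈ K ^ n := by
  have h : ∀ {m n : ℕ}, m ≤ n → s n - s m ∈ K ^ m := by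
    intro m n hmn
    induction n, hmn using Nat.le_induction with
    | base => simp
    | succ n hn ih =>
      rw [← sub_add_sub_cancel (s (n + 1)) (s n) (s m)]
      exact add_mem (Ideal.pow_le_pow_right hn (hs n)) ih
  obtain ⟨L, hL⟩ := IsPrecomplete.prec (I := K) inferInstance (f := s) (fun {m n} hmn => by
    rw [SModEq.sub_mem, smul_eq_mul, Ideal.mul_top]
    rw [← neg_sub]
    exact neg_mem (h hmn))
  exact ⟨L, fun n => by simpa [SModEq.sub_mem] using hL n⟩

theorem isPrecomplete_of_exists_limit (K : Ideal R)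
    (h : ∀ s : ℕ → R, (∀ n, s (n + 1) - s n ∈ K ^ n) → ∃ L, ∀ n, s n - L ∈ K ^ n) :
    IsPrecomplete K R := by
  refine ⟨fun s hs => ?_⟩
  obtain ⟨L, hL⟩ := h s fun n => by
    have := hs (Nat.le_succ n)
    rw [SModEq.sub_mem, smul_eq_mul, Ideal.mul_top] at this
    rw [← neg_sub]
    exact neg_mem this
  exact ⟨L, fun n => by rw [SModEq.sub_mem, smul_eq_mul, Ideal.mul_top]; exact hL n⟩

theorem isPrecomplete_sup (K K' : Ideal R) [IsPrecomplete K R] [IsPrecomplete K' R] :
    IsPrecomplete (K ⊔ K') R := by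
  refine isPrecomplete_of_exists_limit _ fun s hs => ?_
  have htel : ∀ {m n : ℕ}, m ≤ n → s n - s m ∈ (K ⊔ K') ^ m := by
    intro m n hmn
    induction n, hmn using Nat.le_induction with
    | base => simp
    | succ n hn ih =>
      rw [← sub_add_sub_cancel (s (n + 1)) (s n) (s m)]
      exact add_mem (Ideal.pow_le_pow_right hn (hs n)) ih
  have hd : ∀ n, ∃ p ∈ K ^ n, ∃ q ∈ K' ^ n, p + q = s (2 * (n + 1)) - s (2 * n) := fun n =>
    Submodule.mem_sup.1 (Ideal.sup_pow_add_le_pow_sup_pow (n := n) (m := n)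
      (by have := htel (show 2 * n ≤ 2 * (n + 1) by omega); rwa [two_mul n] at this ⊢))
  choose p hp q hq hpq using hd
  obtain ⟨LP, hLP⟩ := exists_limit K (fun n => ∑ i ∈ Finset.range n, p i) fun n => by
    simpa [Finset.sum_range_succ] using hp n
  obtain ⟨LQ, hLQ⟩ := exists_limit K' (fun n => ∑ i ∈ Finset.range n, q i) fun n => by
    simpa [Finset.sum_range_succ] using hq n
  refine ⟨s 0 + LP + LQ, fun n => ?_⟩
  have hsum : s (2 * n) - s 0 = (∑ i ∈ Finset.range n, p i) + ∑ i ∈ Finset.range n, q i := by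
    rw [← Finset.sum_add_distrib, Finset.sum_congr rfl (fun i _ => hpq i),
      Finset.sum_range_sub (fun i => s (2 * i))]
  have : s n - (s 0 + LP + LQ) = -(s (2 * n) - s n) +
      (((∑ i ∈ Finset.range n, p i) - LP) + ((∑ i ∈ Finset.range n, q i) - LQ)) := by
    linear_combination hsum
  rw [this]
  exact add_mem (neg_mem (htel (by omega))) (add_mem
    (Ideal.pow_right_mono le_sup_left n (hLP n)) (Ideal.pow_right_mono le_sup_right n (hLQ n)))

end

section Completion

variable {B : Type u} [CommRing B] (t : B)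

set_option quotPrecheck false in
local notation "R" => AdicCompletion (Ideal.span {t}) B
set_option quotPrecheck false in
local notation "ψ" => algebraMap B (AdicCompletion (Ideal.span {t}) B)

theorem isAdicComplete_map : IsAdicComplete ((Ideal.span {t}).map ψ) R :=
  (IsAdicComplete.map_algebraMap_iff _ _).2
    (AdicCompletion.isAdicComplete (Submodule.fg_span_singleton t))

theorem map_span_pow (m : ℕ) : (Ideal.span {t}).map ψ ^ m = Ideal.span {ψ t ^ m} := by
  rw [Ideal.map_span, Set.image_singleton, Ideal.span_singleton_pow]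

theorem eq_zero_of_forall_dvd (r : R) (h : ∀ m, ψ t ^ m ∣ r) : r = 0 := by
  have := isAdicComplete_map t
  refine IsHausdorff.haus (I := (Ideal.span {t}).map ψ) inferInstance r fun m => ?_
  rw [SModEq.sub_mem, sub_zero, smul_eq_mul, Ideal.mul_top, map_span_pow, Ideal.mem_span_singleton]
  exact h m

theorem exists_series (v : ℕ → R) :
    ∃ L : R, ∀ m, ψ t ^ m ∣ L - ∑ k ∈ Finset.range m, ψ t ^ k * v k := by
  have := isAdicComplete_map t
  obtain ⟨L, hL⟩ := exists_limit ((Ideal.span {t}).map ψ)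
    (fun m => ∑ k ∈ Finset.range m, ψ t ^ k * v k) fun m => by
      rw [map_span_pow, Ideal.mem_span_singleton]
      simp [Finset.sum_range_succ]
  refine ⟨L, fun m => ?_⟩
  rw [← dvd_neg, neg_sub, ← Ideal.mem_span_singleton, ← map_span_pow]
  exact hL m

/-- `b ↦ R` reflects membership in ideals containing a power of `t`. -/
theorem mem_of_map_mem {K : Ideal B} {m : ℕ} (hK : t ^ m ∈ K) {b : B} (h : ψ b ∈ K.map ψ) :
    b ∈ K := by
  let q : R →+* B ⧸ K := (Ideal.Quotient.factor (by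
    rw [Ideal.span_singleton_pow, Ideal.span_singleton_le_iff_mem]; exact hK)).comp
      (AdicCompletion.evalₐ (Ideal.span {t}) m).toRingHom
  have hq : q.comp ψ = Ideal.Quotient.mk K := by
    ext x
    simp [q]
  have hle : K.map ψ ≤ RingHom.ker q := by
    rw [Ideal.map_le_iff_le_comap]
    intro x hx
    rw [Ideal.mem_comap, RingHom.mem_ker, ← RingHom.comp_apply, hq, Ideal.Quotient.eq_zero_iff_mem]
    exact hx
  have h1 := hle h
  rwa [RingHom.mem_ker, ← RingHom.comp_apply, hq, Ideal.Quotient.eq_zero_iff_mem] at h1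

theorem exists_expansion_step (K : Ideal B) (r : R) (hr : r ∈ K.map ψ) :
    ∃ d ∈ K, ∃ r' ∈ K.map ψ, r = ψ d + ψ t * r' := by
  rw [Ideal.map] at hr
  induction hr using Submodule.span_induction with
  | mem x hx =>
    obtain ⟨g, hg, rfl⟩ := hx
    exact ⟨g, hg, 0, zero_mem _, by simp⟩
  | zero => exact ⟨0, zero_mem _, 0, zero_mem _, by simp⟩
  | add x y _ _ hx hy =>
    obtain ⟨d, hd, r', hr', rfl⟩ := hx
    obtain ⟨d', hd', r'', hr'', rfl⟩ := hy
    exact ⟨d + d', add_mem hd hd', r' + r'', add_mem hr' hr'', by rw [map_add]; ring⟩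
  | smul a x _ hx =>
    obtain ⟨d, hd, r', hr', rfl⟩ := hx
    obtain ⟨b, c, hbc⟩ := Groth.Agent.H1Approx.exists_sub_eq_pow_mul B t 1 a
    refine ⟨b * d, K.mul_mem_left _ hd, a * r' + c * ψ d,
      add_mem (Ideal.mul_mem_left _ _ hr') (Ideal.mul_mem_left _ _ (Ideal.mem_map_of_mem _ hd)), ?_⟩
    rw [smul_eq_mul, map_mul]
    linear_combination (ψ d) * hbc

/-- The completion of a `K`-precomplete ring is `K`-precomplete. -/
theorem isPrecomplete_map (K : Ideal B) (hK : K.FG) [IsPrecomplete K B] :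
    IsPrecomplete (K.map ψ) R := by
  refine isPrecomplete_of_exists_limit _ fun s hs => ?_
  have step : ∀ (i : ℕ), ∀ r : {r : R // r ∈ (K ^ i).map ψ},
      ∃ d : {d : B // d ∈ K ^ i}, ∃ r' : {r : R // r ∈ (K ^ i).map ψ}, r.1 = ψ d.1 + ψ t * r'.1 := by
    rintro i ⟨r, hr⟩
    obtain ⟨d, hd, r', hr', h⟩ := exists_expansion_step t (K ^ i) r hr
    exact ⟨⟨d, hd⟩, ⟨r', hr'⟩, h⟩
  choose dd rr hdr using step
  let r₀ : (i : ℕ) → {r : R // r ∈ (K ^ i).map ψ} := fun i =>
    ⟨s (i + 1) - s i, by rw [Ideal.map_pow]; exact hs i⟩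
  let rk : (i : ℕ) → ℕ → {r : R // r ∈ (K ^ i).map ψ} := fun i k => (rr i)^[k] (r₀ i)
  let d : ℕ → ℕ → B := fun i k => (dd i (rk i k)).1
  have hexp : ∀ i m, ψ t ^ m ∣ (r₀ i).1 - ∑ k ∈ Finset.range m, ψ t ^ k * ψ (d i k) := by
    intro i m
    refine ⟨(rk i m).1, ?_⟩
    induction m with
    | zero => simp [rk]
    | succ m ih =>
      have h := hdr i (rk i m)
      have hsucc : rk i (m + 1) = rr i (rk i m) := Function.iterate_succ_apply' (rr i) m (r₀ i)
      rw [← hsucc] at h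
      rw [Finset.sum_range_succ, pow_succ]
      linear_combination ih + (ψ t ^ m) * h
  have hD : ∀ k, ∃ D : B, ∀ N, (∑ i ∈ Finset.range N, d i k) - D ∈ K ^ N := fun k =>
    exists_limit K _ fun N => by simpa [Finset.sum_range_succ, d] using (dd N (rk N k)).2
  choose D hD using hD
  obtain ⟨σ, hσ⟩ := exists_series t fun k => ψ (D k)
  refine ⟨s 0 + σ, fun N => ?_⟩
  obtain ⟨G, hG⟩ := hK.pow (n := N)
  have hc : ∀ k, ∃ c : B → B, ∑ g ∈ G, c g * g = (∑ i ∈ Finset.range N, d i k) - D k := fun k => by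
    have := hD k N
    rw [← hG, Submodule.mem_span_finset] at this
    obtain ⟨c, -, hc⟩ := this
    exact ⟨c, by simpa using hc⟩
  choose c hc using hc
  have hσg : ∀ g, ∃ L : R, ∀ m, ψ t ^ m ∣ L - ∑ k ∈ Finset.range m, ψ t ^ k * ψ (c k g) :=
    fun g => exists_series t fun k => ψ (c k g)
  choose σg hσg using hσg
  suffices h : s N - (s 0 + σ) = ∑ g ∈ G, σg g * ψ g by
    rw [h]
    refine Ideal.sum_mem _ fun g hg => Ideal.mul_mem_left _ _ ?_
    rw [← Ideal.map_pow]
    exact Ideal.mem_map_of_mem _ (hG ▸ Ideal.subset_span hg)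
  rw [← sub_eq_zero]
  refine eq_zero_of_forall_dvd t _ fun m => ?_
  have hsN : s N - s 0 = ∑ i ∈ Finset.range N, (r₀ i).1 := (Finset.sum_range_sub s N).symm
  have h1 : ψ t ^ m ∣ (∑ i ∈ Finset.range N, (r₀ i).1) -
      ∑ k ∈ Finset.range m, ψ t ^ k * ψ (∑ i ∈ Finset.range N, d i k) := by
    simp only [map_sum, Finset.mul_sum]
    rw [Finset.sum_comm, ← Finset.sum_sub_distrib]
    exact Finset.dvd_sum fun i _ => hexp i m
  have h2 : ψ t ^ m ∣ (∑ g ∈ G, σg g * ψ g) -
      ∑ k ∈ Finset.range m, ψ t ^ k * ψ (∑ g ∈ G, c k g * g) := by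
    simp only [map_sum, map_mul, Finset.mul_sum]
    rw [Finset.sum_comm, ← Finset.sum_sub_distrib]
    refine Finset.dvd_sum fun g _ => ?_
    have := (hσg g m).mul_right (ψ g)
    rw [sub_mul, Finset.sum_mul] at this
    simpa [mul_assoc] using this
  have h3 : s N - (s 0 + σ) - ∑ g ∈ G, σg g * ψ g =
      ((∑ i ∈ Finset.range N, (r₀ i).1) - ∑ k ∈ Finset.range m, ψ t ^ k * ψ (∑ i ∈ Finset.range N, d i k)) -
        (σ - ∑ k ∈ Finset.range m, ψ t ^ k * ψ (D k)) -
        ((∑ g ∈ G, σg g * ψ g) - ∑ k ∈ Finset.range m, ψ t ^ k * ψ (∑ g ∈ G, c k g * g)) := by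
    have : ∑ k ∈ Finset.range m, ψ t ^ k * ψ (∑ g ∈ G, c k g * g) =
        ∑ k ∈ Finset.range m, ψ t ^ k * ψ (∑ i ∈ Finset.range N, d i k) -
          ∑ k ∈ Finset.range m, ψ t ^ k * ψ (D k) := by
      rw [← Finset.sum_sub_distrib]
      exact Finset.sum_congr rfl fun k _ => by rw [hc k, map_sub, mul_sub]
    rw [this]
    linear_combination hsN
  rw [h3]
  exact dvd_sub (dvd_sub h1 (hσ m)) h2

/-- The new ideal of infinitely divisible elements is nilpotent. -/
theorem exists_pow_eq_zero (K : Ideal B) [IsPrecomplete K B] {e : ℕ}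
    (he : ∀ b : B, (∀ i, b ∈ K ^ i) → b ^ e = 0) :
    ∀ r : R, (∀ i, r ∈ (K.map ψ ⊔ (Ideal.span {t}).map ψ) ^ i) → r ^ (2 * e) = 0 := by
  intro r hr
  refine eq_zero_of_forall_dvd t _ fun m => ?_
  obtain ⟨b, c, hbc⟩ := Groth.Agent.H1Approx.exists_sub_eq_pow_mul B t m r
  have hb : ∀ i, ∃ u : B, b - t ^ m * u ∈ K ^ i := by
    intro i
    have h1 : r ∈ ((K ^ i) ⊔ Ideal.span {t} ^ m).map ψ := by
      rw [Ideal.map_sup, Ideal.map_pow, Ideal.map_pow]
      exact Ideal.sup_pow_add_le_pow_sup_pow (n := i) (m := m) (hr _)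
    have htm : t ^ m ∈ K ^ i ⊔ Ideal.span {t} ^ m :=
      Ideal.mem_sup_right (Ideal.pow_mem_pow (Ideal.mem_span_singleton_self t) m)
    have h2 : ψ b ∈ ((K ^ i) ⊔ Ideal.span {t} ^ m).map ψ := by
      rw [show ψ b = r - ψ t ^ m * c by linear_combination -hbc, ← map_pow]
      exact sub_mem h1 (Ideal.mul_mem_right _ _ (Ideal.mem_map_of_mem _ htm))
    obtain ⟨y, hy, z, hz, hyz⟩ := Submodule.mem_sup.1 (mem_of_map_mem t htm h2)
    rw [Ideal.span_singleton_pow, Ideal.mem_span_singleton] at hz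
    obtain ⟨u, rfl⟩ := hz
    exact ⟨u, by rw [← hyz]; simpa using hy⟩
  choose u hu using hb
  obtain ⟨S, hS⟩ := exists_limit K (fun i => t ^ m * u i ^ 2) fun i => by
    rw [show t ^ m * u (i + 1) ^ 2 - t ^ m * u i ^ 2 =
      (u (i + 1) + u i) * ((b - t ^ m * u i) - (b - t ^ m * u (i + 1))) by ring]
    exact Ideal.mul_mem_left _ _ (sub_mem (hu i) (Ideal.pow_le_pow_right (Nat.le_succ i) (hu (i + 1))))
  have hc0 : ∀ i, b ^ 2 - t ^ m * S ∈ K ^ i := fun i => by
    rw [show b ^ 2 - t ^ m * S =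
      (b + t ^ m * u i) * (b - t ^ m * u i) + t ^ m * (t ^ m * u i ^ 2 - S) by ring]
    exact add_mem (Ideal.mul_mem_left _ _ (hu i)) (Ideal.mul_mem_left _ _ (hS i))
  have hpow : ψ t ^ m ∣ ψ (b ^ 2 - t ^ m * S) ^ e - (r ^ 2) ^ e := by
    refine dvd_trans ?_ (sub_dvd_pow_sub_pow _ _ e)
    refine ⟨-ψ S - c * (r + ψ b), ?_⟩
    simp only [map_sub, map_mul, map_pow]
    linear_combination (-(r + ψ b)) * hbc
  rw [← map_pow ψ (b ^ 2 - t ^ m * S) e, he _ hc0, map_zero, zero_sub, dvd_neg, ← pow_mul] at hpow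
  exact hpow

end Completion

end Groth.Agent.H1Gabber
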