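import Groth.Agent.H1Gabber.Lift
import Groth.Agent.H1Gabber.Approx

/-!
# Clopen subsets descend along the completion in a principal ideal
-/

set_option autoImplicit false
set_option linter.style.haveILetI false

universe u

namespace Groth.Agent.H1Gabber

open PrimeSpectrum

/-- `V` is a clopen subset of the open set `U`. -/
structure ClopenIn {X : Type u} [TopologicalSpace X] (U V : Set X) : Prop where
  subset : V ⊆ U
  isOpen : IsOpen V
  isOpen_diff : IsOpen (U \ V)

theorem ClopenIn.compl {X : Type u} [TopologicalSpace X] {U V : Set X} (h : ClopenIn U V) :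
    ClopenIn U (U \ V) :=
  ⟨Set.diff_subset, h.isOpen_diff, by rw [Set.diff_diff_cancel_left h.subset]; exact h.isOpen⟩

theorem ClopenIn.preimage {X Y : Type u} [TopologicalSpace X] [TopologicalSpace Y] {U V : Set X}
    (h : ClopenIn U V) (g : Y → X) (hg : Continuous g) : ClopenIn (g ⁻¹' U) (g ⁻¹' V) :=
  ⟨Set.preimage_mono h.subset, h.isOpen.preimage hg, h.isOpen_diff.preimage hg⟩

variable {A : Type u} [CommRing A]

theorem ClopenIn.mem_iff_of_le {U V : Set (PrimeSpectrum A)} (h : ClopenIn U V)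
    {x y : PrimeSpectrum A} (hxy : x ≤ y) (hy : y ∈ U) : x ∈ V ↔ y ∈ V := by
  rw [le_iff_specializes] at hxy
  refine ⟨fun hx => ?_, hxy.mem_open h.isOpen⟩
  by_contra hyV
  exact (hxy.mem_open h.isOpen_diff ⟨hy, hyV⟩).2 hx

/-- A point of the closure of a basic open set generalizes to a point of it. -/
theorem exists_le_of_mem_closure_basicOpen (a : A) (y : PrimeSpectrum A)
    (hy : y ∈ closure (basicOpen a : Set (PrimeSpectrum A))) :
    ∃ x : PrimeSpectrum A, a ∉ x.asIdeal ∧ x ≤ y := by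
  have hdisj : Disjoint ((⊥ : Ideal A) : Set A) (y.asIdeal.primeCompl ⊔ Submonoid.powers a : Submonoid A) := by
    rw [Set.disjoint_left]
    intro z hz hzM
    obtain ⟨s, hs, _, ⟨n, rfl⟩, rfl⟩ := Submonoid.mem_sup.1 hzM
    obtain ⟨z, hzs, hza⟩ := mem_closure_iff.1 hy _ (basicOpen s).2 hs
    rcases z.isPrime.mem_or_mem (show s * a ^ n ∈ z.asIdeal from
      (Ideal.mem_bot.1 hz).symm ▸ zero_mem _) with h | h
    · exact hzs h
    · exact hza (z.isPrime.mem_of_pow_mem n h)
  obtain ⟨P, hP, -, hPM⟩ := Ideal.exists_le_prime_disjoint _ _ hdisj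
  refine ⟨⟨P, hP⟩, fun h => Set.disjoint_left.1 hPM h (Submonoid.mem_sup_right (Submonoid.mem_powers a)),
    fun z hz => ?_⟩
  by_contra hne
  exact Set.disjoint_left.1 hPM hz (Submonoid.mem_sup_left hne)

section Principal

variable (f : A)

set_option quotPrecheck false in
local notation "B" => AdicCompletion (Ideal.span {f}) A
set_option quotPrecheck false in
local notation "π" => PrimeSpectrum.comap (algebraMap A (AdicCompletion (Ideal.span {f}) A))
set_option quotPrecheck false in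
local notation "Z" => PrimeSpectrum.zeroLocus
  {algebraMap A (AdicCompletion (Ideal.span {f}) A) f}

theorem comap_zeroLocus_isClosedEmbedding :
    Topology.IsClosedEmbedding (fun z : (Z : Set (PrimeSpectrum B)) => π z.1) ∧
      Set.range (fun z : (Z : Set (PrimeSpectrum B)) => π z.1) = zeroLocus {f} := by
  let q : B →+* A ⧸ Ideal.span {f} := (AdicCompletion.evalOneₐ (Ideal.span {f})).toRingHom
  have hq : Function.Surjective q := AdicCompletion.evalOneₐ_surjective _
  have hker : RingHom.ker q = Ideal.span {algebraMap A B f} := by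
    rw [AdicCompletion.ker_evalOneₐ_eq_map _ (Submodule.fg_span_singleton f), Ideal.map_span,
      Set.image_singleton]
  have hqc : PrimeSpectrum.comap q ∘ id = PrimeSpectrum.comap q := rfl
  have hrange : Set.range (PrimeSpectrum.comap q) = (Z : Set (PrimeSpectrum B)) := by
    rw [range_comap_of_surjective _ _ hq, hker, zeroLocus_span]
  let e := (isClosedEmbedding_comap_of_surjective _ q hq).toIsEmbedding.toHomeomorph.trans
    (Homeomorph.setCongr hrange)
  have hcomp : ∀ z, π (e z).1 = PrimeSpectrum.comap (Ideal.Quotient.mk (Ideal.span {f})) z := by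
    intro z
    show π (PrimeSpectrum.comap q z) = _
    rw [← PrimeSpectrum.comap_comp_apply]
    congr 1
  have hfun : (fun z : (Z : Set (PrimeSpectrum B)) => π z.1) =
      PrimeSpectrum.comap (Ideal.Quotient.mk (Ideal.span {f})) ∘ e.symm := by
    funext z
    rw [Function.comp_apply, ← hcomp, Homeomorph.apply_symm_apply]
  rw [hfun]
  refine ⟨(isClosedEmbedding_comap_of_surjective _ _ Ideal.Quotient.mk_surjective).comp
    e.symm.isClosedEmbedding, ?_⟩
  rw [Set.range_comp, e.symm.surjective.range_eq, Set.image_univ,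
    range_comap_of_surjective _ _ Ideal.Quotient.mk_surjective, Ideal.mk_ker, zeroLocus_span]

theorem mem_preimage_of_not_mem {I : Ideal A} (hf : f ∈ I) {U : Set (PrimeSpectrum A)}
    (hUI : ∀ x ∉ U, I ≤ x.asIdeal) {x : PrimeSpectrum A} (hx : f ∉ x.asIdeal) : x ∈ U := by
  by_contra h
  exact hx (hUI x h hf)

/-- The candidate set is closed in `U`. -/
theorem closure_subset {I : Ideal A} (hf : f ∈ I) {U : Set (PrimeSpectrum A)}
    (hUI : ∀ x ∉ U, I ≤ x.asIdeal) {W : Set (PrimeSpectrum B)} (hW : ClopenIn (π ⁻¹' U) W) (a a' : A)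
    (ha : (basicOpen a : Set (PrimeSpectrum A)) ⊆ basicOpen f)
    (haa : ∀ P : PrimeSpectrum A, f ∉ P.asIdeal → (a' ∉ P.asIdeal ↔ a ∈ P.asIdeal))
    (hWa : π ⁻¹' (basicOpen a : Set (PrimeSpectrum A)) = W ∩ basicOpen (algebraMap A B f)) :
    closure ((basicOpen a : Set (PrimeSpectrum A)) ∪ π '' (W ∩ Z)) ∩ U ⊆
      (basicOpen a : Set (PrimeSpectrum A)) ∪ π '' (W ∩ Z) := by
  obtain ⟨hemb, hrg⟩ := comap_zeroLocus_isClosedEmbedding f
  rintro y ⟨hy, hyU⟩
  rw [closure_union] at hy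
  rcases hy with hy | hy
  · obtain ⟨x, hx, hxy⟩ := exists_le_of_mem_closure_basicOpen a y hy
    by_cases hfy : f ∈ y.asIdeal
    · have hfx : f ∉ x.asIdeal := ha hx
      obtain ⟨P, Q, hPQ, hxP, hP, hQ⟩ := exists_lift (Ideal.span {f}) (Submodule.fg_span_singleton f) x y hxy
        (fun h => hfx (h (Ideal.mem_span_singleton_self f))) ((Ideal.span_singleton_le_iff_mem _).2 hfy)
      have hfP : f ∉ (π P).asIdeal := fun h => hP ((Ideal.span_singleton_le_iff_mem _).2 h)
      have haP : a ∉ (π P).asIdeal := fun h => (haa x hfx).not.2 hx fun h' =>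
        (haa (π P) hfP).2 h (hxP h')
      have hPW : P ∈ W := ((Set.ext_iff.1 hWa P).1 haP).1
      have hQW : Q ∈ W := (hW.mem_iff_of_le hPQ (show π Q ∈ U by rw [hQ]; exact hyU)).1 hPW
      refine Or.inr ⟨Q, ⟨hQW, ?_⟩, hQ⟩
      rw [mem_zeroLocus, Set.singleton_subset_iff]
      rw [← hQ] at hfy
      exact hfy
    · refine Or.inl fun hay => ?_
      have h1 : a' ∉ y.asIdeal := (haa y hfy).2 hay
      exact hx ((haa x fun h => hfy (hxy h)).1 fun h => h1 (hxy h))
  · have hcl : IsClosed (π '' (closure W ∩ Z)) := by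
      have : π '' (closure W ∩ Z) =
          (fun z : (Z : Set (PrimeSpectrum B)) => π z.1) '' ((↑) ⁻¹' closure W) := by
        ext y
        constructor
        · rintro ⟨z, ⟨h1, h2⟩, rfl⟩
          exact ⟨⟨z, h2⟩, h1, rfl⟩
        · rintro ⟨⟨z, h2⟩, h1, rfl⟩
          exact ⟨z, ⟨h1, h2⟩, rfl⟩
      rw [this]
      exact hemb.isClosedMap _ (isClosed_closure.preimage continuous_subtype_val)
    obtain ⟨z, ⟨hz, hzZ⟩, rfl⟩ := (hcl.closure_subset_iff.2
      (Set.image_mono (Set.inter_subset_inter_left _ subset_closure))) hy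
    refine Or.inr ⟨z, ⟨?_, hzZ⟩, rfl⟩
    by_contra hzW
    obtain ⟨w, ⟨-, hw⟩, hwW⟩ := mem_closure_iff.1 hz _ hW.isOpen_diff ⟨hyU, hzW⟩
    exact hw hwW

/-- Clopen subsets descend along `A → A^_f`. -/
theorem exists_clopenIn_descent {I : Ideal A} [HenselianRing A I] (hf : f ∈ I)
    {U : Set (PrimeSpectrum A)} (hU : IsOpen U) (hUI : ∀ x ∉ U, I ≤ x.asIdeal)
    {W : Set (PrimeSpectrum B)} (hW : ClopenIn (π ⁻¹' U) W) :
    ∃ V : Set (PrimeSpectrum A), ClopenIn U V ∧ π ⁻¹' V = W := by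
  obtain ⟨hemb, hrg⟩ := comap_zeroLocus_isClosedEmbedding f
  have hDU : (basicOpen (algebraMap A B f) : Set (PrimeSpectrum B)) ⊆ π ⁻¹' U :=
    fun P hP => mem_preimage_of_not_mem f hf hUI hP
  obtain ⟨a, a', ha, haa, ha', hWa⟩ := exists_basicOpen_descent f hf (W ∩ basicOpen (algebraMap A B f))
    Set.inter_subset_right (by
      refine ⟨⟨?_⟩, (hW.isOpen.inter (basicOpen _).2).preimage continuous_subtype_val⟩
      have : ((↑) ⁻¹' (W ∩ basicOpen (algebraMap A B f)) :
          Set (basicOpen (algebraMap A B f) : Set (PrimeSpectrum B)))ᶜ = (↑) ⁻¹' (π ⁻¹' U \ W) := by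
        ext ⟨P, hP⟩
        simp only [Set.mem_compl_iff, Set.mem_preimage, Set.mem_inter_iff, Set.mem_diff]
        exact ⟨fun h => ⟨hDU hP, fun h' => h ⟨h', hP⟩⟩, fun h h' => h.2 h'.1⟩
      rw [this]
      exact hW.isOpen_diff.preimage continuous_subtype_val)
  have hWa' : π ⁻¹' (basicOpen a' : Set (PrimeSpectrum A)) =
      (π ⁻¹' U \ W) ∩ basicOpen (algebraMap A B f) := by
    ext P
    have h := Set.ext_iff.1 hWa P
    by_cases hP : f ∈ (π P).asIdeal
    · exact iff_of_false (fun h' => ha' h' hP) fun h' => h'.2 hP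
    · constructor
      · intro h'
        exact ⟨⟨hDU hP, fun hPW => h.2 ⟨hPW, hP⟩ ((haa _ hP).1 h')⟩, hP⟩
      · intro h'
        refine (haa _ hP).2 ?_
        by_contra hne
        exact h'.1.2 (h.1 hne).1
  have haa' : ∀ P : PrimeSpectrum A, f ∉ P.asIdeal → (a ∉ P.asIdeal ↔ a' ∈ P.asIdeal) :=
    fun P hP => by rw [← not_iff_not, not_not, ← haa P hP]
  set V : Set (PrimeSpectrum A) := (basicOpen a : Set (PrimeSpectrum A)) ∪ π '' (W ∩ Z) with hV
  set V' : Set (PrimeSpectrum A) := (basicOpen a' : Set (PrimeSpectrum A)) ∪ π '' ((π ⁻¹' U \ W) ∩ Z) with hV'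
  have hinj : ∀ z ∈ (Z : Set (PrimeSpectrum B)), ∀ z' ∈ (Z : Set (PrimeSpectrum B)), π z = π z' → z = z' :=
    fun z hz z' hz' h => congrArg Subtype.val (hemb.injective (a₁ := ⟨z, hz⟩) (a₂ := ⟨z', hz'⟩) h)
  have hfZ : ∀ z : PrimeSpectrum B, z ∈ (Z : Set (PrimeSpectrum B)) ↔ f ∈ (π z).asIdeal := fun z => by
    rw [mem_zeroLocus, Set.singleton_subset_iff]
    rfl
  have hVU : V ⊆ U := Set.union_subset (fun x hx => mem_preimage_of_not_mem f hf hUI (ha hx))
    (Set.image_subset_iff.2 fun z hz => hW.subset hz.1)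
  have hV'U : V' ⊆ U := Set.union_subset (fun x hx => mem_preimage_of_not_mem f hf hUI (ha' hx))
    (Set.image_subset_iff.2 fun z hz => hz.1.1)
  have hcover : ∀ y ∈ U, y ∈ V ↔ y ∉ V' := by
    intro y hy
    by_cases hfy : f ∈ y.asIdeal
    · obtain ⟨⟨z, hz⟩, hzy⟩ : y ∈ Set.range (fun z : (Z : Set (PrimeSpectrum B)) => π z.1) := by
        rw [hrg, mem_zeroLocus, Set.singleton_subset_iff]
        exact hfy
      simp only at hzy
      subst hzy
      constructor
      · rintro (h | ⟨w, ⟨hw, hwZ⟩, hwz⟩) (h' | ⟨w', ⟨hw', hwZ'⟩, hwz'⟩)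
        · exact ha h hfy
        · exact ha h hfy
        · exact ha' h' hfy
        · exact hw'.2 (hinj w hwZ w' hwZ' (hwz.trans hwz'.symm) ▸ hw)
      · intro h
        by_cases hzW : z ∈ W
        · exact Or.inr ⟨z, ⟨hzW, hz⟩, rfl⟩
        · exact absurd (Or.inr ⟨z, ⟨⟨hy, hzW⟩, hz⟩, rfl⟩) h
    · constructor
      · rintro (h | ⟨w, ⟨hw, hwZ⟩, rfl⟩) (h' | ⟨w', ⟨hw', hwZ'⟩, hwz'⟩)
        · exact h ((haa y hfy).1 h')
        · exact hfy (hwz' ▸ (hfZ w').1 hwZ')
        · exact hfy ((hfZ w).1 hwZ)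
        · exact hfy ((hfZ w).1 hwZ)
      · intro h
        exact Or.inl fun hay => h (Or.inl ((haa y hfy).2 hay))
  have h1 := closure_subset f hf hUI hW a a' ha haa hWa
  have h2 := closure_subset f hf hUI hW.compl a' a ha' haa' hWa'
  refine ⟨V, ⟨hVU, ?_, ?_⟩, ?_⟩
  · have : V = U \ closure V' := Set.ext fun y => ⟨fun h => ⟨hVU h, fun h' =>
      (hcover y (hVU h)).1 h (h2 ⟨h', hVU h⟩)⟩, fun h => (hcover y h.1).2 fun h' => h.2 (subset_closure h')⟩
    rw [this]
    exact hU.sdiff isClosed_closure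
  · have : U \ V = U \ closure V := Set.ext fun y => ⟨fun h => ⟨h.1, fun h' => h.2 (h1 ⟨h', h.1⟩)⟩,
      fun h => ⟨h.1, fun h' => h.2 (subset_closure h')⟩⟩
    rw [this]
    exact hU.sdiff isClosed_closure
  · ext z
    constructor
    · intro hz
      by_contra hzW
      refine (hcover _ (hVU hz)).1 hz ?_
      by_cases hfz : f ∈ (π z).asIdeal
      · exact Or.inr ⟨z, ⟨⟨hVU hz, hzW⟩, (hfZ z).2 hfz⟩, rfl⟩
      · exact Or.inl ((Set.ext_iff.1 hWa' z).2 ⟨⟨hVU hz, hzW⟩, hfz⟩)
    · intro hzW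
      by_cases hfz : f ∈ (π z).asIdeal
      · exact Or.inr ⟨z, ⟨hzW, (hfZ z).2 hfz⟩, rfl⟩
      · exact Or.inl ((Set.ext_iff.1 hWa z).2 ⟨hzW, hfz⟩)

end Principal

/-- Injectivity: a clopen subset of `U` is determined by its preimage in the completion. -/
theorem clopenIn_ext {I : Ideal A} [HenselianRing A I] (hI : I.FG) {U : Set (PrimeSpectrum A)}
    (hUI : ∀ x ∉ U, I ≤ x.asIdeal) {V V' : Set (PrimeSpectrum A)} (hV : ClopenIn U V)
    (hV' : ClopenIn U V')
    (h : PrimeSpectrum.comap (algebraMap A (AdicCompletion I A)) ⁻¹' V =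
      PrimeSpectrum.comap (algebraMap A (AdicCompletion I A)) ⁻¹' V') : V = V' := by
  suffices H : ∀ {V V' : Set (PrimeSpectrum A)}, ClopenIn U V → ClopenIn U V' →
      PrimeSpectrum.comap (algebraMap A (AdicCompletion I A)) ⁻¹' V =
      PrimeSpectrum.comap (algebraMap A (AdicCompletion I A)) ⁻¹' V' → V ⊆ V' from
    Set.Subset.antisymm (H hV hV' h) (H hV' hV h.symm)
  intro V V' hV hV' h x hx
  by_cases hIx : I ≤ x.asIdeal
  · have : x ∈ Set.range (PrimeSpectrum.comap (algebraMap A (AdicCompletion I A))) := by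
      obtain ⟨z, hz⟩ : x ∈ Set.range (PrimeSpectrum.comap (Ideal.Quotient.mk I)) := by
        rw [range_comap_of_surjective _ _ Ideal.Quotient.mk_surjective, Ideal.mk_ker]
        exact hIx
      refine ⟨PrimeSpectrum.comap (AdicCompletion.evalOneₐ I).toRingHom z, ?_⟩
      rw [← PrimeSpectrum.comap_comp_apply, AdicCompletion.evalOneₐ_comp_algebraMap_eq_mk]
      exact hz
    obtain ⟨z, rfl⟩ := this
    exact (Set.ext_iff.1 h z).1 hx
  · obtain ⟨m, hm, hxm⟩ := Ideal.exists_le_maximal _ x.isPrime.ne_top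
    have hIm : I ≤ m := fun a ha =>
      (Ideal.mem_sInf.1 (HenselianRing.jac (I := I) ha)) ⟨bot_le, hm⟩
    obtain ⟨P, Q, -, hxP, hP, -⟩ := exists_lift I hI x ⟨m, hm.isPrime⟩ hxm hIx hIm
    have hPU : PrimeSpectrum.comap (algebraMap A (AdicCompletion I A)) P ∈ U := by
      by_contra h'
      exact hP (hUI _ h')
    exact (hV'.mem_iff_of_le hxP hPU).2 ((Set.ext_iff.1 h P).1 ((hV.mem_iff_of_le hxP hPU).1 hx))

end Groth.Agent.H1Gabber
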