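import Groth.Agent.H1Gabber.Step
import Groth.Agent.H1Gabber.Series
import Groth.Agent.Hensel.PairBasic
import Mathlib.RingTheory.Spectrum.Prime.Homeomorph

/-!
# Gabber rigidity for clopen subsets, through a tower of principal completions
-/

set_option autoImplicit false
set_option linter.style.haveILetI false

universe u

namespace Groth.Agent.H1Gabber

open PrimeSpectrum

variable {A : Type u} [CommRing A]

/-- The properties of the stages of the tower. -/
structure Stage (I J : Ideal A) {B : Type u} [CommRing B] (φ : A →+* B) : Prop where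
  hens : HenselianRing B (I.map φ)
  dense : ∀ (m : ℕ) (b : B), ∃ a : A, b - φ a ∈ (I.map φ) ^ m
  reflect : ∀ (m : ℕ) (a : A), φ a ∈ (I.map φ) ^ m → a ∈ I ^ m
  prec : IsPrecomplete (J.map φ) B
  nil : ∃ e : ℕ, ∀ b : B, (∀ i, b ∈ (J.map φ) ^ i) → b ^ e = 0
  desc : ∀ U : Set (PrimeSpectrum A), IsOpen U → (∀ x ∉ U, I ≤ x.asIdeal) →
    ∀ W : Set (PrimeSpectrum B), ClopenIn (PrimeSpectrum.comap φ ⁻¹' U) W →
      ∃ V, ClopenIn U V ∧ PrimeSpectrum.comap φ ⁻¹' V = W

theorem stage_id (I : Ideal A) [h : HenselianRing A I] : Stage I ⊥ (RingHom.id A) where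
  hens := by rwa [Ideal.map_id]
  dense m b := ⟨b, by simp⟩
  reflect m a ha := by simpa [Ideal.map_id] using ha
  prec := by
    rw [Ideal.map_bot]
    infer_instance
  nil := ⟨1, fun b hb => by simpa using hb 1⟩
  desc U _ _ W hW := ⟨W, by simpa [PrimeSpectrum.comap_id] using hW, by simp [PrimeSpectrum.comap_id]⟩

theorem stage_succ {I J : Ideal A} (hJ : J.FG) (hJI : J ≤ I) {f : A} (hf : f ∈ I)
    {B : Type u} [CommRing B] {φ : A →+* B} (h : Stage I J φ) :
    Stage I (J ⊔ Ideal.span {f})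
      ((algebraMap B (AdicCompletion (Ideal.span {φ f}) B)).comp φ) := by
  have := h.hens
  have := h.prec
  set t := φ f with ht
  set ψ := algebraMap B (AdicCompletion (Ideal.span {t}) B) with hψ
  have htI : t ∈ I.map φ := Ideal.mem_map_of_mem φ hf
  have hcomplete := isAdicComplete_map t
  have hle : (Ideal.span {t}).map ψ ≤ (I.map φ).map ψ :=
    Ideal.map_mono ((Ideal.span_singleton_le_iff_mem _).2 htI)
  refine ⟨?_, fun m r => ?_, fun m a ha => ?_, ?_, ?_, fun U hU hUI W hW => ?_⟩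
  · rw [← Ideal.map_map]
    have hq : Function.Surjective
        ((Ideal.Quotient.mk ((Ideal.span {t}).map ψ)).comp ψ) := fun z => by
      obtain ⟨r, rfl⟩ := Ideal.Quotient.mk_surjective z
      obtain ⟨b, c, hbc⟩ := Groth.Agent.H1Approx.exists_sub_eq_pow_mul B t 1 r
      refine ⟨b, (Ideal.Quotient.eq.2 ?_).symm⟩
      rw [hbc, pow_one]
      exact Ideal.mul_mem_right _ _ (Ideal.mem_map_of_mem _ (Ideal.mem_span_singleton_self t))
    algebraize [(Ideal.Quotient.mk ((Ideal.span {t}).map ψ)).comp ψ]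
    have : Algebra.IsIntegral B (AdicCompletion (Ideal.span {t}) B ⧸ (Ideal.span {t}).map ψ) :=
      Algebra.isIntegral_of_surjective hq
    have h1 := Groth.Agent.Hensel.henselianRing_of_isIntegral' (I.map φ)
      (AdicCompletion (Ideal.span {t}) B ⧸ (Ideal.span {t}).map ψ)
    have h2 : (I.map φ).map (algebraMap B (AdicCompletion (Ideal.span {t}) B ⧸ (Ideal.span {t}).map ψ)) =
        ((I.map φ).map ψ).map (Ideal.Quotient.mk _) := by
      rw [Ideal.map_map (I := I.map φ)]; rfl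
    rw [h2] at h1
    exact Groth.Agent.Hensel.henselianRing_trans hle
  · obtain ⟨b, c, hbc⟩ := Groth.Agent.H1Approx.exists_sub_eq_pow_mul B t m r
    obtain ⟨a, ha⟩ := h.dense m b
    refine ⟨a, ?_⟩
    rw [← Ideal.map_map, ← Ideal.map_pow, RingHom.comp_apply,
      show r - ψ (φ a) = ψ t ^ m * c + ψ (b - φ a) by rw [map_sub]; linear_combination hbc,
      ← map_pow]
    exact add_mem (Ideal.mul_mem_right _ _ (Ideal.mem_map_of_mem _ (Ideal.pow_mem_pow htI m)))
      (Ideal.mem_map_of_mem _ ha)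
  · rw [← Ideal.map_map, ← Ideal.map_pow] at ha
    exact h.reflect m a (mem_of_map_mem t (Ideal.pow_mem_pow htI m) ha)
  · rw [Ideal.map_sup, ← Ideal.map_map, ← Ideal.map_map, Ideal.map_span φ, Set.image_singleton, ← ht]
    have := isPrecomplete_map t (J.map φ) (hJ.map φ)
    exact isPrecomplete_sup _ _
  · obtain ⟨e, he⟩ := h.nil
    refine ⟨2 * e, fun r hr => ?_⟩
    rw [Ideal.map_sup, ← Ideal.map_map, ← Ideal.map_map, Ideal.map_span φ, Set.image_singleton, ← ht] at hr
    exact exists_pow_eq_zero t (J.map φ) he r hr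
  · have hU' : IsOpen (PrimeSpectrum.comap φ ⁻¹' U) := hU.preimage (PrimeSpectrum.continuous_comap φ)
    have hUI' : ∀ x ∉ PrimeSpectrum.comap φ ⁻¹' U, I.map φ ≤ x.asIdeal := fun x hx =>
      Ideal.map_le_iff_le_comap.2 (hUI _ hx)
    rw [PrimeSpectrum.comap_comp] at hW
    obtain ⟨V₁, hV₁, rfl⟩ := exists_clopenIn_descent t htI hU' hUI' hW
    obtain ⟨V, hV, rfl⟩ := h.desc U hU hUI V₁ hV₁
    exact ⟨V, hV, by rw [PrimeSpectrum.comap_comp]; rfl⟩

theorem exists_stage (I : Ideal A) [HenselianRing A I] (s : Finset A) (hs : (s : Set A) ⊆ I) :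
    ∃ (B : Type u) (_ : CommRing B) (φ : A →+* B), Stage I (Ideal.span s) φ := by
  classical
  induction s using Finset.cons_induction with
  | empty => exact ⟨A, inferInstance, RingHom.id A, by simpa using stage_id I⟩
  | cons f s hfs ih =>
    simp only [Finset.coe_cons, Set.insert_subset_iff] at hs
    obtain ⟨B, _, φ, h⟩ := ih hs.2
    refine ⟨AdicCompletion (Ideal.span {φ f}) B, inferInstance,
      (algebraMap B (AdicCompletion (Ideal.span {φ f}) B)).comp φ, ?_⟩
    have := stage_succ ⟨s, rfl⟩ (Ideal.span_le.2 hs.2) hs.1 h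
    rwa [← Ideal.span_union, Set.union_comm, ← Set.insert_eq, ← Finset.coe_cons (h := hfs)] at this

/-- Clopen subsets descend along the completion. -/
theorem exists_clopenIn (I : Ideal A) (hI : I.FG) [HenselianRing A I]
    (U : Set (PrimeSpectrum A)) (hU : IsOpen U) (hUI : ∀ x ∉ U, I ≤ x.asIdeal)
    (W : Set (PrimeSpectrum (AdicCompletion I A)))
    (hW : ClopenIn (PrimeSpectrum.comap (algebraMap A (AdicCompletion I A)) ⁻¹' U) W) :
    ∃ V, ClopenIn U V ∧ PrimeSpectrum.comap (algebraMap A (AdicCompletion I A)) ⁻¹' V = W := by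
  obtain ⟨s, hs⟩ := hI
  obtain ⟨B, _, φ, h⟩ := exists_stage I s (hs ▸ Ideal.subset_span)
  rw [show Ideal.span (s : Set A) = I from hs] at h
  let q : (m : ℕ) → A ⧸ I ^ m →+* B ⧸ (I.map φ) ^ m := fun m =>
    Ideal.quotientMap _ φ (by rw [← Ideal.map_le_iff_le_comap, Ideal.map_pow])
  have hq : ∀ m, Function.Bijective (q m) := fun m => by
    refine ⟨(injective_iff_map_eq_zero _).2 fun z hz => ?_, fun z => ?_⟩
    · obtain ⟨a, rfl⟩ := Ideal.Quotient.mk_surjective z
      rw [Ideal.quotientMap_mk, Ideal.Quotient.eq_zero_iff_mem] at hz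
      exact Ideal.Quotient.eq_zero_iff_mem.2 (h.reflect m a hz)
    · obtain ⟨b, rfl⟩ := Ideal.Quotient.mk_surjective z
      obtain ⟨a, ha⟩ := h.dense m b
      exact ⟨Ideal.Quotient.mk _ a, by rw [Ideal.quotientMap_mk]; exact (Ideal.Quotient.eq.2 ha).symm⟩
  let θ₀ : (m : ℕ) → B →+* A ⧸ I ^ m := fun m =>
    (RingEquiv.ofBijective (q m) (hq m)).symm.toRingHom.comp (Ideal.Quotient.mk _)
  have hθ₀ : ∀ (m : ℕ) (b : B), q m (θ₀ m b) = Ideal.Quotient.mk _ b := fun m b =>
    (RingEquiv.ofBijective (q m) (hq m)).apply_symm_apply _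
  have hθa : ∀ (m : ℕ) (b : B) (a : A), θ₀ m b = Ideal.Quotient.mk _ a ↔ b - φ a ∈ (I.map φ) ^ m :=
    fun m b a => by
      rw [← (hq m).1.eq_iff, hθ₀, Ideal.quotientMap_mk, Ideal.Quotient.eq]
  let Θ : B →+* AdicCompletion I A := AdicCompletion.liftRingHom I θ₀ (fun {m n} hle => by
    ext b
    obtain ⟨a, ha⟩ := h.dense n b
    rw [RingHom.comp_apply, (hθa n b a).2 ha,
      (hθa m b a).2 (Ideal.pow_le_pow_right hle ha)]
    rfl)
  have hΘ : ∀ m b, AdicCompletion.evalₐ I m (Θ b) = θ₀ m b := fun m b =>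
    AdicCompletion.evalₐ_liftRingHom I θ₀ _ m b
  have hΘφ : Θ.comp φ = algebraMap A (AdicCompletion I A) := RingHom.ext fun a =>
    AdicCompletion.ext_evalₐ fun m => by
      rw [RingHom.comp_apply, hΘ, AlgHom.commutes, Ideal.Quotient.algebraMap_eq, hθa, sub_self]
      exact zero_mem _
  have hsurj : Function.Surjective Θ := fun z => by
    have := h.prec
    choose a ha using fun m => Ideal.Quotient.mk_surjective (AdicCompletion.evalₐ I m z)
    have hcauchy : ∀ m, φ (a (m + 1)) - φ (a m) ∈ (I.map φ) ^ m := fun m => by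
      rw [← map_sub, ← Ideal.map_pow]
      refine Ideal.mem_map_of_mem _ (Ideal.Quotient.eq.1 ?_)
      obtain ⟨r, rfl⟩ := AdicCompletion.mk_surjective I A z
      have e : ∀ k, Ideal.Quotient.mk (I ^ k) (a k) = Ideal.Quotient.mk (I ^ k) (r.val k) := fun k =>
        (ha k).trans (AdicCompletion.evalₐ_mk I k r)
      rw [e m]
      have := congrArg (Ideal.Quotient.factor (Ideal.pow_le_pow_right (Nat.le_succ m))) (e (m + 1))
      simp only [Ideal.Quotient.factor_mk] at this
      rw [this, AdicCompletion.Ideal.mk_eq_mk I (Nat.le_succ m)]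
    obtain ⟨L, hL⟩ := exists_limit (I.map φ) (fun m => φ (a m)) hcauchy
    refine ⟨L, AdicCompletion.ext_evalₐ fun m => ?_⟩
    rw [hΘ, ← ha m, hθa, ← neg_sub]
    exact neg_mem (hL m)
  have hker : RingHom.ker Θ ≤ nilradical B := fun b hb => by
    obtain ⟨e, he⟩ := h.nil
    refine ⟨e, he b fun m => ?_⟩
    have : θ₀ m b = Ideal.Quotient.mk _ 0 := by
      rw [← hΘ, RingHom.mem_ker.1 hb, map_zero, map_zero]
    simpa using (hθa m b 0).1 this
  obtain ⟨g, hg⟩ : ∃ g : PrimeSpectrum (AdicCompletion I A) ≃ₜ PrimeSpectrum B,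
      ∀ z, g z = PrimeSpectrum.comap Θ z :=
    ⟨(PrimeSpectrum.isHomeomorph_comap Θ (fun x => ⟨1, one_pos, by
      rw [pow_one]; exact hsurj x⟩) hker).homeomorph _, fun z => rfl⟩
  have hcomp : ∀ z, PrimeSpectrum.comap φ (g z) =
      PrimeSpectrum.comap (algebraMap A (AdicCompletion I A)) z := fun z => by
    rw [hg, ← PrimeSpectrum.comap_comp_apply, hΘφ]
  have hW' : ClopenIn (PrimeSpectrum.comap φ ⁻¹' U) (g.symm ⁻¹' W) := by
    have h1 := hW.preimage g.symm g.symm.continuous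
    convert h1 using 1
    ext z
    simp only [Set.mem_preimage]
    rw [← hcomp, g.apply_symm_apply]
  obtain ⟨V, hV, hVW⟩ := h.desc U hU hUI _ hW'
  refine ⟨V, hV, ?_⟩
  ext z
  rw [Set.mem_preimage, ← hcomp, ← Set.mem_preimage, hVW, Set.mem_preimage, g.symm_apply_apply]

end Groth.Agent.H1Gabber
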